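import Cfsg.Agent.H571.RM.RowC

/-!
# S3849: `RowM` from a subgroup with centralising conjugates (helper571)

* `rowM_of_sub` : `B₀ ≠ 1` an `r`-subgroup all of whose conjugates inside `H` centralise `A`;
* `rowM_of_cen` : `B₀` centralises EVERY abelian `π`-subgroup of order prime to `r` which it normalises (to be checked in
  `S` or in a central extension `X` of `S`); no information on `H` and `A` is needed.
-/

set_option autoImplicit false

namespace Cfsg.Agent.H571.RM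

open Subgroup Cfsg Cfsg.Agent.H988.CPi Cfsg.Agent.H571.DExt Cfsg.Agent.H571.RV Cfsg.Agent.Solvable.SZ
open scoped Pointwise

universe u

variable {π : Set ℕ} {r : ℕ} {S : Type u} [Group S] {H A : Subgroup S}

/-- the subgroup generated by the conjugates of `B` in `H` -/
def cs (H B : Subgroup S) : Subgroup S := closure {y | ∃ g : S, MulAut.conj g • B ≤ H ∧ y ∈ MulAut.conj g • B}

theorem cs_le (B : Subgroup S) : cs H B ≤ H := by
  rw [cs, closure_le]
  rintro y ⟨g, hg, hy⟩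
  exact hg hy

theorem cs_smul (B : Subgroup S) (x : S) : cs (MulAut.conj x • H) B = MulAut.conj x • cs H B := by
  have h1 : {y | ∃ g : S, MulAut.conj g • B ≤ MulAut.conj x • H ∧ y ∈ MulAut.conj g • B} =
      (MulAut.conj x).toMonoidHom '' {y | ∃ g : S, MulAut.conj g • B ≤ H ∧ y ∈ MulAut.conj g • B} := by
    ext y
    constructor
    · rintro ⟨g, hg, b, hb, rfl⟩
      refine ⟨x⁻¹ * (g * b * g⁻¹) * x, ⟨x⁻¹ * g, ?_, b, hb, ?_⟩, ?_⟩
      · rw [map_mul, mul_smul]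
        have h2 := smul_mono_right (MulAut.conj x⁻¹) hg
        rwa [← mul_smul (MulAut.conj x⁻¹) (MulAut.conj x) H, ← map_mul, inv_mul_cancel, map_one, one_smul] at h2
      · show x⁻¹ * g * b * (x⁻¹ * g)⁻¹ = x⁻¹ * (g * b * g⁻¹) * x
        group
      · show x * (x⁻¹ * (g * b * g⁻¹) * x) * x⁻¹ = g * b * g⁻¹
        group
    · rintro ⟨_, ⟨g, hg, b, hb, rfl⟩, rfl⟩
      refine ⟨x * g, ?_, b, hb, ?_⟩
      · rw [map_mul, mul_smul]
        exact smul_mono_right _ hg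
      · show x * g * b * (x * g)⁻¹ = x * (g * b * g⁻¹) * x⁻¹
        group
  rw [cs, h1]
  exact (MonoidHom.map_closure (MulAut.conj x).toMonoidHom _).symm

theorem le_normalizer_cs (B : Subgroup S) : H ≤ normalizer (cs H B : Set S) := by
  have h1 : ∀ x ∈ H, MulAut.conj x • cs H B = cs H B := by
    intro x hx
    rw [← cs_smul]
    congr 1
    ext y
    rw [mem_smul_iff']
    constructor
    · intro hy
      have h2 := H.mul_mem (H.mul_mem hx hy) (H.inv_mem hx)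
      have h3 : x * (x⁻¹ * y * x) * x⁻¹ = y := by group
      rwa [h3] at h2
    · intro hy
      exact H.mul_mem (H.mul_mem (H.inv_mem hx) hy) hx
  rw [le_normalizer_iff]
  intro x hx b hb
  rw [← h1 x hx]
  exact ⟨b, hb, rfl⟩

variable [Finite S]

/-- **a subgroup all of whose conjugates in `H` centralise `A`** -/
theorem rowM_of_sub [IsSimpleGroup S] (hna : ∃ a b : S, a * b ≠ b * a) (d : HA π r H A) (hrπ : r ∈ π)
    {B : Subgroup S} (hB : IsPGroup r B) (hB1 : B ≠ ⊥)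
    (hcen : Dom π S → ∀ g : S, MulAut.conj g • B ≤ H → ∀ b ∈ MulAut.conj g • B, ∀ a ∈ A, b * a = a * b) :
    RowM π S := by
  intro hsm hD
  obtain ⟨R, hR, hRH, hRA, hRmem⟩ := d.exists_core
  have hconj : ∀ g : S, IsPGroup r (MulAut.conj g • B : Subgroup S) := fun g =>
    (hB.map _ : IsPGroup r (B.map (MulAut.conj g).toMonoidHom))
  have hBR : cs H B ≤ R := by
    rw [cs, closure_le]
    rintro y ⟨g, hg, hy⟩
    obtain ⟨k, hk⟩ := hconj g ⟨y, hy⟩
    exact hRmem y (hg hy) ⟨k, congrArg Subtype.val hk⟩ (hcen hD g hg y hy)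
  have hdom := (d.dfw hD).dom
  have key : ∀ g x : S, ∀ Q : Subgroup S, MulAut.conj g • cs H B ≤ Q → Q ≤ MulAut.conj x • H →
      MulAut.conj g • cs H B = MulAut.conj x • cs H B := by
    intro g x Q h1 h2
    have h3 : MulAut.conj g • cs H B ≤ MulAut.conj x • cs H B := by
      rw [← cs_smul, ← cs_smul]
      have h4 : cs (MulAut.conj g • H) B ≤ MulAut.conj x • H := by
        rw [cs_smul]; exact h1.trans h2
      rw [cs, closure_le] at h4 ⊢
      rintro y ⟨g', hg', hy⟩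
      refine subset_closure ⟨g', fun b hb => ?_, hy⟩
      exact h4 ⟨g', hg', hb⟩
    exact eq_of_le_of_card_ge h3 (by rw [card_conj_smul, card_conj_smul])
  refine rowM_of_wc (B := cs H B) hna d hrπ (hR.to_le hBR) ?_ (cs_le B) (le_normalizer_cs B)
    (fun b hb a ha => hRA b (hBR hb) a ha) ?_ hsm hD
  · intro hbot
    obtain ⟨x, -, hx⟩ := hdom B le_top (piN_of_pgroup d.hr hrπ hB)
    have h0 : MulAut.conj x⁻¹ • B ≤ H := by rw [smul_le_iff', inv_inv]; exact hx
    have h1 : MulAut.conj x⁻¹ • B ≤ cs H B := fun y hy => subset_closure ⟨x⁻¹, h0, hy⟩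
    rw [hbot, le_bot_iff] at h1
    apply hB1
    rw [← card_eq_one, ← card_conj_smul x⁻¹ B, h1, card_bot]
  · intro _ g Q hQ h1 h2
    obtain ⟨x, -, hx⟩ := hdom Q le_top (piN_of_pgroup d.hr hrπ hQ)
    have h3 := key g x Q h2 hx
    have h4 := key 1 x Q (by rw [map_one, one_smul]; exact h1) hx
    rw [map_one, one_smul] at h4
    exact h3.trans h4.symm

/-- **the final criterion** -/
theorem rowM_of_cen [IsSimpleGroup S] (hna : ∃ a b : S, a * b ≠ b * a) (d : HA π r H A) (hrπ : r ∈ π)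
    {X : Type*} [Group X] [Finite X] (f : X →* S) (hf : Function.Surjective f) (hker : f.ker ≤ Subgroup.center X)
    (hcop : (Nat.card A).Coprime (Nat.card f.ker)) {B : Subgroup X} (hB : IsPGroup r B) (hB1 : ∃ b ∈ B, f b ≠ 1)
    (hC : ∀ A' : Subgroup X, (∀ a ∈ A', ∀ b ∈ A', a * b = b * a) → PiN π (Nat.card A') → ¬ r ∣ Nat.card A' →
      B ≤ normalizer (A' : Set X) → ∀ b ∈ B, ∀ a ∈ A', b * a = a * b) : RowM π S := by
  obtain ⟨A', hA'A, hab, hcard, hmem, hnor⟩ := exists_lift_A f hf hker d.ab hcop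
  refine rowM_of_sub (B := B.map f) hna d hrπ (hB.map f) ?_ ?_
  · obtain ⟨b, hb, hb1⟩ := hB1
    intro h
    exact hb1 (by rw [← mem_bot, ← h]; exact ⟨b, hb, rfl⟩)
  · rintro _ g hg b hb a ha
    obtain ⟨g', rfl⟩ := hf g
    obtain ⟨_, ⟨b', hb', rfl⟩, rfl⟩ := hb
    rw [← hA'A] at ha
    obtain ⟨a', ha', rfl⟩ := ha
    -- the conjugate `A'' = g'⁻¹ A' g'`
    have h1 : B ≤ normalizer ((MulAut.conj g'⁻¹ • A' : Subgroup X) : Set X) := by
      rw [le_normalizer_iff]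
      rintro c hc _ ⟨x, hx, rfl⟩
      have h2 : f (g' * c * g'⁻¹) ∈ normalizer (A : Set S) := by
        refine d.nor (hg ⟨f c, ⟨c, hc, rfl⟩, ?_⟩)
        show f g' * f c * (f g')⁻¹ = f (g' * c * g'⁻¹)
        rw [map_mul, map_mul, map_inv]
      have h3 := (mem_normalizer_iff.mp (hnor _ h2) x).mp hx
      refine ⟨_, h3, ?_⟩
      show g'⁻¹ * (g' * c * g'⁻¹ * x * (g' * c * g'⁻¹)⁻¹) * g'⁻¹⁻¹ = c * (g'⁻¹ * x * g'⁻¹⁻¹) * c⁻¹
      group
    have hc : Nat.card (MulAut.conj g'⁻¹ • A' : Subgroup X) = Nat.card A := by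
      rw [card_conj_smul, hcard]
    have h4 := hC (MulAut.conj g'⁻¹ • A') (by
      rintro _ ⟨x, hx, rfl⟩ _ ⟨y, hy, rfl⟩
      show MulAut.conj g'⁻¹ x * MulAut.conj g'⁻¹ y = MulAut.conj g'⁻¹ y * MulAut.conj g'⁻¹ x
      rw [← map_mul, ← map_mul, hab x hx y hy]) (by
      rw [hc]; exact PiN.of_dvd d.hall.1 (card_dvd_of_le d.ale)) (by rw [hc]; exact d.rA) h1 b' hb'
      (g'⁻¹ * a' * g'⁻¹⁻¹) ⟨a', ha', rfl⟩
    have h5 : f g' * f b' * (f g')⁻¹ * f a' = f a' * (f g' * f b' * (f g')⁻¹) := by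
      have h6 : g' * b' * g'⁻¹ * a' = a' * (g' * b' * g'⁻¹) := by
        have h7 : g' * (b' * (g'⁻¹ * a' * g'⁻¹⁻¹)) * g'⁻¹ = g' * ((g'⁻¹ * a' * g'⁻¹⁻¹) * b') * g'⁻¹ := by rw [h4]
        have h8 : g' * (b' * (g'⁻¹ * a' * g'⁻¹⁻¹)) * g'⁻¹ = g' * b' * g'⁻¹ * a' := by group
        have h9 : g' * ((g'⁻¹ * a' * g'⁻¹⁻¹) * b') * g'⁻¹ = a' * (g' * b' * g'⁻¹) := by group
        rw [← h8, h7, h9]
      have h7 := congrArg f h6
      simpa only [map_mul, map_inv] using h7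
    exact h5

end Cfsg.Agent.H571.RM
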