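import Cfsg.Agent.H571.RM.RowZB
import Cfsg.Agent.H959.RV.Two

/-!
# S3849: trivial rows and central extensions (helper571)

* `her_of_nilpotent`, `her_of_onePrime`, `her_of_piGrp`, `her_of_not_dom`; `HA.of_two`;
* `exists_lift_A` : `A` lifts to an abelian subgroup of a central extension of `S` with kernel of order prime to `|A|`;
* `rowM_of_z_cover` : the condition of `rowM_of_z` checked in a central extension.
-/

set_option autoImplicit false

namespace Cfsg.Agent.H571.RM

open Subgroup Cfsg Cfsg.Agent.H988.CPi Cfsg.Agent.H571.DExt Cfsg.Agent.H571.RV Cfsg.Agent.Solvable.SZ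
open scoped Pointwise

universe u

variable {π : Set ℕ} {r : ℕ} {S : Type u} [Group S] {H A : Subgroup S}

theorem HA.of_two (h : Cfsg.Agent.H959.RV.Two π H A) : HA π 2 H A :=
  ⟨Nat.prime_two, h.hall, h.le, h.norm, h.comm, h.odd, h.quot⟩

theorem her_of_not_dom (h : ¬ Dom π S) : Her π S := fun hD => absurd hD h

theorem her_rowM (h : Her π S) : RowM π S := fun _ => h

variable [Finite S]

theorem her_of_nilpotent (hH : IsPiHall π H) (hn : Group.IsNilpotent H) : Her π S := by
  refine her_of_one hH fun _ M hHM => ?_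
  refine DomIn.of_dom hH hHM (dom_of_nilpotent (H := H.subgroupOf M) (hall_subgroupOf hH hHM) ?_)
  exact Group.nilpotent_of_mulEquiv (subgroupOfEquivOfLe hHM).symm

theorem her_of_onePrime (h : OnePrime π S) : Her π S := fun _ _ M _ _ =>
  Cfsg.Agent.H808.RV.dom_of_onePrime fun p q hp hq hpπ hqπ h1 h2 =>
    h p q hp hq hpπ hqπ (h1.trans (card_subgroup_dvd_card M)) (h2.trans (card_subgroup_dvd_card M))

theorem her_of_piGrp (h : PiGrp π S) : Her π S := by
  intro _ H M hH hHM
  have h1 : H = ⊤ := by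
    rw [← Subgroup.index_eq_one]
    exact eq_one_of_both (π := π) (PiN.of_dvd h (Subgroup.index_dvd_card H)) hH.2
  refine ⟨⊤, ?_, fun K _ => ⟨1, ?_⟩⟩
  · have h2 : PiGrp π M := PiN.of_dvd h (card_subgroup_dvd_card M)
    exact h2.hall
  · rw [map_one, one_smul]; exact le_top

section cover

variable {X : Type*} [Group X] [Finite X] (f : X →* S)

/-- the abelian normal subgroup lifts -/
theorem exists_lift_A (hf : Function.Surjective f) (hker : f.ker ≤ Subgroup.center X)
    (hab : ∀ a ∈ A, ∀ b ∈ A, a * b = b * a) (hcop : (Nat.card A).Coprime (Nat.card f.ker)) :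
    ∃ A' : Subgroup X, A'.map f = A ∧ (∀ a ∈ A', ∀ b ∈ A', a * b = b * a) ∧ Nat.card A' = Nat.card A ∧
      (∀ x : X, (f x ∈ A ∧ x ^ Nat.card A = 1) ↔ x ∈ A') ∧
      (∀ x : X, f x ∈ normalizer (A : Set S) → x ∈ normalizer (A' : Set X)) := by
  set n := Nat.card A with hn
  have hcomm : ∀ x y : X, f x ∈ A → f y ∈ A → x ^ n = 1 → x * y = y * x := by
    intro x y hx hy hxn
    set c := x * y * x⁻¹ * y⁻¹ with hc
    have hck : c ∈ f.ker := by
      rw [MonoidHom.mem_ker, hc]
      simp only [map_mul, map_inv]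
      rw [hab _ hx _ hy]
      group
    have hcc : ∀ w : X, w * c = c * w := fun w => Subgroup.mem_center_iff.mp (hker hck) w
    have h1 : x * y * x⁻¹ = c * y := by rw [hc]; group
    have h2 : y * x * y⁻¹ = c⁻¹ * x := by
      rw [hc]; group
    have h3 : (y * x * y⁻¹) ^ n = 1 := by rw [conj_pow, hxn, mul_one, mul_inv_cancel]
    have h4 : (c⁻¹ * x) ^ n = c⁻¹ ^ n * x ^ n := by
      refine (Commute.mul_pow ?_ n)
      exact (Commute.inv_left (show c * x = x * c from (hcc x).symm))
    rw [h2, h4, hxn, mul_one, inv_pow, inv_eq_one] at h3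
    have h5 : c ^ Nat.card f.ker = 1 := by
      have h6 : (⟨c, hck⟩ : f.ker) ^ Nat.card f.ker = 1 := pow_card_eq_one'
      exact congrArg Subtype.val h6
    have h6 : c = 1 := by
      have h7 : orderOf c ∣ n := orderOf_dvd_of_pow_eq_one h3
      have h8 : orderOf c ∣ Nat.card f.ker := orderOf_dvd_of_pow_eq_one h5
      have h9 : orderOf c ∣ 1 := by rw [← hcop]; exact Nat.dvd_gcd h7 h8
      exact orderOf_eq_one_iff.mp (Nat.dvd_one.mp h9)
    rw [h6, one_mul] at h1
    rw [mul_inv_eq_iff_eq_mul] at h1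
    exact h1
  let A' : Subgroup X :=
    { carrier := {x | f x ∈ A ∧ x ^ n = 1}
      one_mem' := ⟨by rw [map_one]; exact A.one_mem, one_pow n⟩
      mul_mem' := by
        rintro x y ⟨hx, hxn⟩ ⟨hy, hyn⟩
        refine ⟨by rw [map_mul]; exact A.mul_mem hx hy, ?_⟩
        rw [(show Commute x y from hcomm x y hx hy hxn).mul_pow, hxn, hyn, one_mul]
      inv_mem' := by
        rintro x ⟨hx, hxn⟩
        exact ⟨by rw [map_inv]; exact A.inv_mem hx, by rw [inv_pow, hxn, inv_one]⟩ }
  have hmem : ∀ x : X, (f x ∈ A ∧ x ^ n = 1) ↔ x ∈ A' := fun x => Iff.rfl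
  have hpow : ∀ a ∈ A, a ^ n = 1 := by
    intro a ha
    have h6 : (⟨a, ha⟩ : A) ^ Nat.card A = 1 := pow_card_eq_one'
    exact congrArg Subtype.val h6
  have hmap : A'.map f = A := by
    apply le_antisymm
    · rintro _ ⟨x, hx, rfl⟩
      exact hx.1
    · intro a ha
      obtain ⟨x, rfl⟩ := hf a
      obtain ⟨m, hm1, hm2⟩ := Nat.chineseRemainder hcop 1 0
      refine ⟨x ^ m, ⟨by rw [map_pow]; exact A.pow_mem ha m, ?_⟩, ?_⟩
      · rw [← pow_mul, mul_comm, pow_mul]
        have h1 : x ^ n ∈ f.ker := by rw [MonoidHom.mem_ker, map_pow, hpow _ ha]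
        have h2 : Nat.card f.ker ∣ m := (Nat.modEq_zero_iff_dvd.mp hm2)
        obtain ⟨j, rfl⟩ := h2
        rw [pow_mul]
        have h3 : (⟨x ^ n, h1⟩ : f.ker) ^ Nat.card f.ker = 1 := pow_card_eq_one'
        have h4 : (x ^ n) ^ Nat.card f.ker = 1 := congrArg Subtype.val h3
        rw [h4, one_pow]
      · rw [map_pow]
        have h1 : f x ^ m = f x ^ 1 := by
          rw [pow_eq_pow_iff_modEq]
          exact hm1.of_dvd (orderOf_dvd_of_pow_eq_one (hpow _ ha))
        rw [h1, pow_one]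
  refine ⟨A', hmap, fun a ha b hb => hcomm a b ha.1 hb.1 ha.2, ?_, hmem, ?_⟩
  · have hinj : Function.Injective (f.comp A'.subtype) := by
      rw [injective_iff_map_eq_one]
      rintro ⟨x, hx⟩ h1
      have h2 : f x = 1 := h1
      have h3 : x ∈ f.ker := h2
      have h4 : (⟨x, h3⟩ : f.ker) ^ Nat.card f.ker = 1 := pow_card_eq_one'
      have h5 : x ^ Nat.card f.ker = 1 := congrArg Subtype.val h4
      have h7 : orderOf x ∣ n := orderOf_dvd_of_pow_eq_one hx.2
      have h8 : orderOf x ∣ Nat.card f.ker := orderOf_dvd_of_pow_eq_one h5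
      have h9 : orderOf x ∣ 1 := by rw [← hcop]; exact Nat.dvd_gcd h7 h8
      exact Subtype.ext (orderOf_eq_one_iff.mp (Nat.dvd_one.mp h9))
    have h1 : Nat.card A' = Nat.card (f.comp A'.subtype).range :=
      Nat.card_congr (Equiv.ofInjective _ hinj)
    rw [h1, MonoidHom.range_comp, Subgroup.range_subtype, hmap]
  · intro x hx
    rw [mem_normalizer_iff]
    intro a
    have h1 : ∀ b : X, (x * b * x⁻¹) ^ n = 1 ↔ b ^ n = 1 := by
      intro b
      rw [conj_pow]
      constructor
      · intro h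
        have h2 : b ^ n = x⁻¹ * (x * b ^ n * x⁻¹) * x := by group
        rw [h2, h]; group
      · intro h
        rw [h]; group
    rw [← hmem, ← hmem, h1]
    have h2 := mem_normalizer_iff.mp hx (f a)
    rw [map_mul, map_mul, map_inv]
    exact and_congr_left fun _ => h2

/-- the condition on `z` checked in a central extension -/
theorem rowM_of_z_cover [IsSimpleGroup S] (hna : ∃ a b : S, a * b ≠ b * a) (d : HA π r H A) (hrπ : r ∈ π)
    (hf : Function.Surjective f) {A' : Subgroup X} (hA' : A ≤ A'.map f) {z : X} (hz : f z ≠ 1)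
    (hzr : ∃ k, z ^ r ^ k = 1)
    (hcen : Dom π S → ∀ g : X, f (g * z * g⁻¹) ∈ H → ∀ a ∈ A', (g * z * g⁻¹) * a = a * (g * z * g⁻¹)) : RowM π S := by
  refine rowM_of_z hna d hrπ hz ?_ fun hD g hg a ha => ?_
  · obtain ⟨k, hk⟩ := hzr
    exact ⟨k, by rw [← map_pow, hk, map_one]⟩
  · obtain ⟨g', rfl⟩ := hf g
    obtain ⟨a', ha', rfl⟩ := hA' ha
    have h1 := hcen hD g' (by rw [map_mul, map_mul, map_inv]; exact hg) a' ha'
    have h2 := congrArg f h1
    simpa only [map_mul, map_inv] using h2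

end cover

end Cfsg.Agent.H571.RM
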