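import Cfsg.Agent.H571.RV.FHallB

/-!
# S3849: heredity of `D_π` for overgroups of Hall subgroups, definitions (helper571)

* `Her π G` : `D_π(G)` implies `D_π(M)` for all `M` containing a Hall `π`-subgroup of `G`;
* `RowM π S` : what has to be shown for the simple groups `S`;
* `DomIn π M H` : every `π`-subgroup of `M` lies in an `M`-conjugate of `H`;
* `her_of_one` : it is enough to consider one Hall subgroup.
-/

set_option autoImplicit false

namespace Cfsg.Agent.H571.RM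

open Subgroup Cfsg Cfsg.Agent.H988.CPi Cfsg.Agent.H571.DExt Cfsg.Agent.H571.RV Cfsg.Agent.Solvable.SZ
open scoped Pointwise

/-- `D_π` is inherited by the overgroups of the Hall `π`-subgroups -/
def Her (π : Set ℕ) (G : Type*) [Group G] : Prop :=
  Dom π G → ∀ H M : Subgroup G, IsPiHall π H → H ≤ M → Dom π M

/-- the row of the simple group `S` for S3849 -/
def RowM (π : Set ℕ) (S : Type*) [Group S] : Prop :=
  (∀ L : Subgroup S, L ≠ ⊤ → Her π L) → Her π S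

/-- every `π`-subgroup of `M` lies in an `M`-conjugate of `H` -/
def DomIn {G : Type*} [Group G] (π : Set ℕ) (M H : Subgroup G) : Prop :=
  ∀ K ≤ M, PiN π (Nat.card K) → ∃ m ∈ M, K ≤ MulAut.conj m • H

variable {π : Set ℕ} {G : Type*} [Group G] [Finite G]

omit [Finite G] in
theorem hall_subgroupOf {H M : Subgroup G} (hH : IsPiHall π H) (hHM : H ≤ M) : IsPiHall π (H.subgroupOf M) := by
  refine ⟨?_, ?_⟩
  · have h1 : PiN π (Nat.card (H.subgroupOf M)) := by rw [card_subgroupOf _ _ hHM]; exact hH.1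
    exact h1
  · intro p hp hpπ hd
    exact hH.2 p hp hpπ (hd.trans (relIndex_dvd_index_of_le hHM))

omit [Finite G] in
theorem DomIn.dom {H M : Subgroup G} (h : DomIn π M H) (hH : IsPiHall π H) (hHM : H ≤ M) : Dom π M := by
  refine ⟨H.subgroupOf M, hall_subgroupOf hH hHM, fun K hK => ?_⟩
  obtain ⟨m, hm, hle⟩ := h (K.map M.subtype) (map_subtype_le K) (by
    rw [card_map_of_injective M.subtype_injective]; exact hK)
  refine ⟨⟨m, hm⟩, fun x hx => ?_⟩
  obtain ⟨y, hy, hy'⟩ := hle ⟨x, hx, rfl⟩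
  have hy2 : m * y * m⁻¹ = (x : G) := hy'
  have hyM : y ∈ M := by
    have h1 : y = m⁻¹ * (x : G) * m := by rw [← hy2]; group
    rw [h1]; exact M.mul_mem (M.mul_mem (M.inv_mem hm) x.2) hm
  exact ⟨⟨y, hyM⟩, hy, Subtype.ext hy2⟩

theorem DomIn.of_dom {H M : Subgroup G} (hH : IsPiHall π H) (hHM : H ≤ M) (h : Dom π M) : DomIn π M H := by
  intro K hKM hK
  obtain ⟨T, hT, hdom⟩ := h
  obtain ⟨g, hg⟩ := (Dom.cpi ⟨T, hT, hdom⟩).2 T (H.subgroupOf M) hT (hall_subgroupOf hH hHM)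
  obtain ⟨y, hy⟩ := hdom (K.subgroupOf M) (by rw [card_subgroupOf _ _ hKM]; exact hK)
  refine ⟨(y : G) * (g : G)⁻¹, M.mul_mem y.2 (M.inv_mem g.2), fun x hx => ?_⟩
  obtain ⟨t, ht, ht'⟩ := hy (show (⟨x, hKM hx⟩ : M) ∈ K.subgroupOf M from hx)
  have h1 : (y : G) * t * (y : G)⁻¹ = x := congrArg Subtype.val ht'
  have h2 : g * t * g⁻¹ ∈ H.subgroupOf M := by rw [hg]; exact ⟨t, ht, rfl⟩
  refine ⟨(g : G) * t * (g : G)⁻¹, h2, ?_⟩
  show ((y : G) * (g : G)⁻¹) * ((g : G) * t * (g : G)⁻¹) * ((y : G) * (g : G)⁻¹)⁻¹ = x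
  rw [← h1]; group

/-- one Hall subgroup is enough -/
theorem her_of_one {H : Subgroup G} (hH : IsPiHall π H) (h : Dom π G → ∀ M : Subgroup G, H ≤ M → DomIn π M H) :
    Her π G := by
  intro hD K M hK hKM
  obtain ⟨g, hg⟩ := hD.cpi.2 K H hK hH
  -- `H = K^g ≤ M^g`
  have hg' : H = MulAut.conj g • K := hg
  have hHM : H ≤ MulAut.conj g • M := by rw [hg']; exact smul_mono_right _ hKM
  have h1 := h hD _ hHM
  refine DomIn.dom (H := K) ?_ hK hKM
  intro T hTM hT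
  obtain ⟨m, hm, hle⟩ := h1 (MulAut.conj g • T) (smul_mono_right _ hTM) (by rw [card_conj_smul]; exact hT)
  obtain ⟨m', hm', hmm⟩ := hm
  refine ⟨m', hm', fun x hx => ?_⟩
  have hmm' : g * m' * g⁻¹ = m := hmm
  obtain ⟨y, hy, hyx⟩ := hle (show g * x * g⁻¹ ∈ MulAut.conj g • T from ⟨x, hx, rfl⟩)
  rw [hg'] at hy
  obtain ⟨k, hk, hky⟩ := hy
  have hky' : g * k * g⁻¹ = y := hky
  have hyx' : m * y * m⁻¹ = g * x * g⁻¹ := hyx
  refine ⟨k, hk, ?_⟩
  show m' * k * m'⁻¹ = x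
  rw [← hky', ← hmm'] at hyx'
  have h2 : g * (m' * k * m'⁻¹) * g⁻¹ = g * x * g⁻¹ := by rw [← hyx']; group
  exact mul_left_cancel (mul_right_cancel h2)

/-- `DFw` from a dominating Hall subgroup -/
theorem dfw_mk {r : ℕ} {H A : Subgroup G} (hD : Dom π G) (hH : IsPiHall π H) (hAH : A ≤ H)
    (hn : H ≤ normalizer (A : Set G)) (hab : ∀ a ∈ A, ∀ b ∈ A, a * b = b * a) (hrA : ¬ r ∣ Nat.card A)
    (hidx : ∀ p : ℕ, p.Prime → p ∣ A.relIndex H → p = r) : DFw π r ⊤ H A where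
  le := le_top
  pi := hH.1
  ale := hAH
  nor := hn
  ab := hab
  rA := hrA
  idx := hidx
  dom := fun K _ hK => by
    obtain ⟨T, hT, hdom⟩ := hD
    obtain ⟨g, hg⟩ := (Dom.cpi ⟨T, hT, hdom⟩).2 T H hT hH
    obtain ⟨y, hy⟩ := hdom K hK
    refine ⟨y * g⁻¹, mem_top _, hy.trans ?_⟩
    have hg' : H = MulAut.conj g • T := hg
    rw [hg', ← mul_smul, ← map_mul, inv_mul_cancel_right]

end Cfsg.Agent.H571.RM
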