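import Cfsg.Agent.H571.RM.ThetaB

/-!
# S3849: the criterion FD (helper571)

`fd` : if for `1 ≠ X ≤ A` the number of conjugates of `A` in `C_M(X)` is prime to `r`, then `Dom M`.
-/

set_option autoImplicit false

namespace Cfsg.Agent.H571.RM

open Subgroup Cfsg Cfsg.Agent.H988.CPi Cfsg.Agent.H571.DExt Cfsg.Agent.H571.RV Cfsg.Agent.Solvable.SZ
open scoped Pointwise

universe u

variable {π : Set ℕ} {r : ℕ} {G : Type u} [Group G] [Finite G] {H A B L : Subgroup G}

/-- an `r`-subgroup lies in a conjugate of a subgroup of index prime to `r` -/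
theorem exists_conj_le (hr : r.Prime) {N T R : Subgroup G} (hRN : R ≤ N) (hR : IsPGroup r R)
    (hidx : ¬ r ∣ T.relIndex N) : ∃ n ∈ N, MulAut.conj n • R ≤ T := by
  have := Fact.mk hr
  have hR' : IsPGroup r (R.subgroupOf N) := hR.comap_subtype
  obtain ⟨x, hx⟩ := hR'.nonempty_fixed_point_of_prime_not_dvd_card (N ⧸ T.subgroupOf N) hidx
  obtain ⟨n, rfl⟩ := QuotientGroup.mk_surjective x
  refine ⟨(n : G)⁻¹, N.inv_mem n.2, ?_⟩
  rintro _ ⟨y, hy, rfl⟩
  have h1 := hx ⟨⟨y, hRN hy⟩, hy⟩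
  have h2 : (QuotientGroup.mk (⟨y, hRN hy⟩ * n) : N ⧸ T.subgroupOf N) = QuotientGroup.mk n := h1
  rw [QuotientGroup.eq] at h2
  have h3 : (((⟨y, hRN hy⟩ * n : N)⁻¹ * n : N) : G) ∈ T := h2
  have h4 := T.inv_mem h3
  have h5 : ((((⟨y, hRN hy⟩ * n : N)⁻¹ * n : N) : G))⁻¹ = (n : G)⁻¹ * y * (n : G)⁻¹⁻¹ := by
    push_cast; group
  rw [h5] at h4
  exact h4

/-- `H` dominates in `N_M(A)` -/
theorem domIn_norm (h : DFw π r ⊤ H A) (hr : r.Prime) {M : Subgroup G} (hHM : H ≤ M) :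
    DomIn π (normalizer (A : Set G) ⊓ M) H := by
  have hHN : H ≤ normalizer (A : Set G) ⊓ M := le_inf h.nor hHM
  obtain ⟨H', hH'N, -, hH'π, -, hdom⟩ := h.norm_aux hr (N := normalizer (A : Set G) ⊓ M)
    (h.ale.trans hHN) le_top inf_le_left
  intro K hK hKπ
  obtain ⟨n, hn, hle⟩ := hdom K hK hKπ
  obtain ⟨n', hn', hle'⟩ := hdom H hHN h.pi
  have hc : Nat.card H' ≤ Nat.card H := by
    obtain ⟨g, -, hg⟩ := h.dom H' le_top hH'π
    calc Nat.card H' ≤ Nat.card (MulAut.conj g • H : Subgroup G) := card_le_of_le hg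
      _ = Nat.card H := card_conj_smul _ _
  have heq : H = MulAut.conj n' • H' := eq_of_le_of_card_ge hle' (by rw [card_conj_smul]; exact hc)
  refine ⟨n * n'⁻¹, (normalizer (A : Set G) ⊓ M).mul_mem hn ((normalizer (A : Set G) ⊓ M).inv_mem hn'), ?_⟩
  rw [heq, ← mul_smul, ← map_mul, inv_mul_cancel_right]
  exact hle

/-- `X ⊔ R`, `R` normalised into `N(A)` -/
theorem fin_aux (h : DFw π r ⊤ H A) (hr : r.Prime) {M X R : Subgroup G} (hHM : H ≤ M) (hXA : X ≤ A)
    (hRM : R ≤ M) {n : G} (hnX : n ∈ normalizer (X : Set G)) (hnM : n ∈ M)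
    (hle : MulAut.conj n • R ≤ normalizer (A : Set G)) (hπ : PiN π (Nat.card (X ⊔ R : Subgroup G))) :
    ∃ x ∈ M, X ⊔ R ≤ MulAut.conj x • H := by
  refine back hnM ?_
  have hXn : MulAut.conj n • X ≤ X := by
    rintro _ ⟨x, hx, rfl⟩
    exact (mem_normalizer_iff.mp hnX x).mp hx
  have h1 : MulAut.conj n • (X ⊔ R) ≤ normalizer (A : Set G) ⊓ M := by
    rw [smul_sup]
    refine sup_le (hXn.trans (le_inf ((hXA.trans h.ale).trans h.nor) ((hXA.trans h.ale).trans hHM)))
      (le_inf hle ?_)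
    rintro _ ⟨x, hx, rfl⟩
    exact M.mul_mem (M.mul_mem hnM (hRM hx)) (M.inv_mem hnM)
  obtain ⟨x, hx, hx2⟩ := domIn_norm h hr hHM _ h1 (by rw [card_conj_smul]; exact hπ)
  exact ⟨x, hx.2, hx2⟩

/-- Frattini: `N_M(X) = C_M(X) N(A)` for `X ≤ A` -/
theorem frat (h : DFw π r ⊤ H A) {M X : Subgroup G} (hAM : A ≤ M) (hXA : X ≤ A) {n : G}
    (hn : n ∈ normalizer (X : Set G) ⊓ M) :
    ∃ c ∈ centralizer (X : Set G) ⊓ M, c⁻¹ * n ∈ normalizer (A : Set G) := by
  have hAC : A ≤ centralizer (X : Set G) ⊓ M := by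
    refine le_inf (fun a ha => ?_) hAM
    rw [mem_centralizer_iff]
    intro x hx
    exact h.ab x (hXA hx) a ha
  have hAn : MulAut.conj n • A ≤ centralizer (X : Set G) ⊓ M := by
    rintro _ ⟨a, ha, rfl⟩
    refine ⟨?_, M.mul_mem (M.mul_mem hn.2 (hAM ha)) (M.inv_mem hn.2)⟩
    show n * a * n⁻¹ ∈ centralizer (X : Set G)
    rw [mem_centralizer_iff]
    intro x hx
    have h1 : n⁻¹ * x * n ∈ X := by
      have h1 := (mem_normalizer_iff.mp ((normalizer (X : Set G)).inv_mem hn.1) x).mp hx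
      rwa [inv_inv] at h1
    have h2 := h.ab _ (hXA h1) a ha
    have h3 : x * (n * a * n⁻¹) = n * ((n⁻¹ * x * n) * a) * n⁻¹ := by group
    rw [h3, h2]; group
  obtain ⟨c, hc, hle⟩ := wiel h hAC hAn
    (by rw [card_conj_smul]; exact h.pi.of_dvd (card_dvd_of_le h.ale)) (by rw [card_conj_smul]; exact h.rA)
  refine ⟨c, hc, ?_⟩
  have heq : MulAut.conj n • A = MulAut.conj c • A := eq_of_le_of_card_ge hle (by rw [card_conj_smul, card_conj_smul])
  have h5 : MulAut.conj (c⁻¹ * n) • A = A := by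
    rw [map_mul, mul_smul, heq, ← mul_smul, ← map_mul, inv_mul_cancel, map_one, one_smul]
  rw [mem_normalizer_iff]
  intro a
  constructor
  · intro ha
    have h6 : (c⁻¹ * n) * a * (c⁻¹ * n)⁻¹ ∈ MulAut.conj (c⁻¹ * n) • A := ⟨a, ha, rfl⟩
    rwa [h5] at h6
  · intro ha
    have h6 : (c⁻¹ * n) * a * (c⁻¹ * n)⁻¹ ∈ MulAut.conj (c⁻¹ * n) • A := by rw [h5]; exact ha
    rw [mem_smul_iff'] at h6
    have h7 : (c⁻¹ * n)⁻¹ * ((c⁻¹ * n) * a * (c⁻¹ * n)⁻¹) * (c⁻¹ * n) = a := by group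
    rwa [h7] at h6

/-- the index of `N(A)` in `N_M(X)` divides the one in `C_M(X)` -/
theorem frat_relIndex (h : DFw π r ⊤ H A) {M X : Subgroup G} (hAM : A ≤ M) (hXA : X ≤ A) :
    (normalizer (A : Set G)).relIndex (normalizer (X : Set G) ⊓ M) =
      (normalizer (A : Set G)).relIndex (centralizer (X : Set G) ⊓ M) := by
  set N := normalizer (X : Set G) ⊓ M with hN
  set C := centralizer (X : Set G) ⊓ M with hC
  have hCN : C ≤ N := inf_le_inf_right _ (centralizer_le_normalizer _)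
  have hn : (C.subgroupOf N).Normal := by
    rw [normal_subgroupOf_iff_le_normalizer hCN, le_normalizer_iff]
    rintro n hn c hc
    refine ⟨?_, M.mul_mem (M.mul_mem hn.2 hc.2) (M.inv_mem hn.2)⟩
    show n * c * n⁻¹ ∈ centralizer (X : Set G)
    rw [mem_centralizer_iff]
    intro x hx
    have h1 : n⁻¹ * x * n ∈ X := by
      have h1 := (mem_normalizer_iff.mp ((normalizer (X : Set G)).inv_mem hn.1) x).mp hx
      rwa [inv_inv] at h1
    have h2 := mem_centralizer_iff.mp hc.1 _ h1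
    have h3 : x * (n * c * n⁻¹) = n * ((n⁻¹ * x * n) * c) * n⁻¹ := by group
    rw [h3, h2]; group
  have htop : (normalizer (A : Set G)).subgroupOf N ⊔ C.subgroupOf N = ⊤ := by
    rw [eq_top_iff]
    intro n _
    obtain ⟨c, hc, hcn⟩ := frat h hAM hXA n.2
    have h1 : n = ⟨c, hCN hc⟩ * (⟨c, hCN hc⟩⁻¹ * n) := by group
    rw [h1]
    exact Subgroup.mul_mem _ (mem_sup_right (show c ∈ C from hc))
      (mem_sup_left (show c⁻¹ * (n : G) ∈ normalizer (A : Set G) from hcn))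
  have h1 := relIndex_sup' ((normalizer (A : Set G)).subgroupOf N) (C.subgroupOf N)
  rw [htop, relIndex_top_right] at h1
  rw [relIndex, h1, relIndex_subgroupOf hCN]

/-- **FD** -/
theorem fd (h : DFw π r ⊤ H A) (hr : r.Prime) {M : Subgroup G} (hHM : H ≤ M)
    (hfd : ∀ X ≤ A, X ≠ ⊥ → ¬ r ∣ (normalizer (A : Set G)).relIndex (centralizer (X : Set G) ⊓ M)) :
    DomIn π M H := by
  have hAM := h.ale.trans hHM
  intro K hKM hK
  obtain ⟨m, hm, X, R, hXA, hR, hRM, hRX, hsup⟩ := reduce h hr hAM hKM hK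
  refine back hm ?_
  rw [hsup]
  have hπ : PiN π (Nat.card (X ⊔ R : Subgroup G)) := by rw [← hsup, card_conj_smul]; exact hK
  by_cases hrπ : r ∈ π
  · have hidx : ¬ r ∣ (normalizer (A : Set G)).relIndex (normalizer (X : Set G) ⊓ M) := by
      rw [frat_relIndex h hAM hXA]
      by_cases hX : X = ⊥
      · intro hd
        have h1 : (normalizer (A : Set G)).relIndex (centralizer (X : Set G) ⊓ M) ∣ H.relIndex ⊤ := by
          have h2 : centralizer (X : Set G) ⊓ M = M := by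
            rw [inf_eq_right, hX]
            intro x _
            rw [mem_centralizer_iff]
            intro y hy
            rw [coe_bot, Set.mem_singleton_iff] at hy
            rw [hy, one_mul, mul_one]
          rw [h2]
          refine (relIndex_dvd_of_le_left M h.nor).trans ?_
          rw [relIndex_top_right]
          exact relIndex_dvd_index_of_le hHM
        exact h.hall r hr hrπ (hd.trans h1)
      · exact hfd X hXA hX
    obtain ⟨n, hn, hle⟩ := exists_conj_le hr (N := normalizer (X : Set G) ⊓ M) (le_inf hRX hRM) hR hidx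
    exact fin_aux h hr hHM hXA hRM hn.1 hn.2 hle hπ
  · have hR1 : R = ⊥ := by
      rw [← card_eq_one]
      by_contra hne
      obtain ⟨p, hp, hd⟩ := Nat.exists_prime_and_dvd hne
      have := Fact.mk hr
      obtain ⟨k, hk⟩ := IsPGroup.iff_card.mp hR
      have h1 : p = r := (Nat.prime_dvd_prime_iff_eq hp hr).mp (hp.dvd_of_dvd_pow (hk ▸ hd))
      exact hrπ (h1 ▸ hπ p hp (hd.trans (card_dvd_of_le le_sup_right)))
    refine ⟨1, M.one_mem, ?_⟩
    rw [hR1, sup_bot_eq, map_one, one_smul]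
    exact hXA.trans h.ale

/-- **FD**, form with `C_H(X)` -/
theorem fd_cent (h : DFw π r ⊤ H A) (hr : r.Prime) {M : Subgroup G} (hHM : H ≤ M)
    (hfd : ∀ X ≤ A, X ≠ ⊥ → ¬ r ∣ H.relIndex (centralizer (X : Set G))) : DomIn π M H := by
  refine fd h hr hHM fun X hXA hX hd => hfd X hXA hX ?_
  have h1 : (normalizer (A : Set G)).relIndex (centralizer (X : Set G) ⊓ M) ∣
      H.relIndex (centralizer (X : Set G) ⊓ M) := relIndex_dvd_of_le_left _ h.nor
  refine (hd.trans h1).trans ?_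
  have h2 : H ⊓ centralizer (X : Set G) ≤ centralizer (X : Set G) ⊓ M := le_inf inf_le_right (inf_le_left.trans hHM)
  have h3 : H.relIndex (centralizer (X : Set G) ⊓ M) = (H ⊓ centralizer (X : Set G)).relIndex
      (centralizer (X : Set G) ⊓ M) := by
    rw [← inf_relIndex_right H (centralizer (X : Set G) ⊓ M)]
    congr 1
    exact le_antisymm (le_inf inf_le_left (inf_le_right.trans inf_le_left)) (le_inf inf_le_left h2)
  have h4 : H.relIndex (centralizer (X : Set G)) = (H ⊓ centralizer (X : Set G)).relIndex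
      (centralizer (X : Set G)) := (inf_relIndex_right _ _).symm
  rw [h3, h4, ← relIndex_mul_relIndex _ _ _ h2 inf_le_left]
  exact Dvd.intro _ rfl

/-- **FD**, form `C_G(X) ≤ N_G(A)` -/
theorem fd_norm (h : DFw π r ⊤ H A) (hr : r.Prime) {M : Subgroup G} (hHM : H ≤ M)
    (hfd : ∀ X ≤ A, X ≠ ⊥ → centralizer (X : Set G) ≤ normalizer (A : Set G)) : DomIn π M H := by
  refine fd h hr hHM fun X hXA hX hd => ?_
  have h1 : (normalizer (A : Set G)).relIndex (centralizer (X : Set G) ⊓ M) = 1 :=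
    relIndex_eq_one.mpr (inf_le_left.trans (hfd X hXA hX))
  rw [h1] at hd
  exact hr.one_lt.ne' (Nat.dvd_one.mp hd)

end Cfsg.Agent.H571.RM
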