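import Cfsg.Agent.H571.RM.OmSq
import Cfsg.Agent.H571.RM.OmRot
import Cfsg.Agent.H571.RM.RowS
import Cfsg.Agent.H556.OmGrp
import Cfsg.Agent.H556.OmMax

/-!
# S3849, orthogonal row: the rotations in `Omega` centralise the abelian groups they normalise (helper571)

* `exists_rot` : rotations of order four in two planes lie in `Omega`;
* `rowM_omega` : `RowM π S` for `S = POmega F Q`, `dim ≥ 7`, from `HA π 2 H A`.
-/

set_option autoImplicit false
set_option linter.unusedSectionVars false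

namespace Cfsg.Agent.H571.RM.Om

open Module QuadraticMap Cfsg.Agent.H167.OP Cfsg.Agent.H170.HL Cfsg.Agent.H170.HL.OmRow Cfsg.Agent.H556.Om
open Subgroup Cfsg Cfsg.Agent.H988.CPi Cfsg.Agent.H571.DExt Cfsg.Agent.H571.RV Cfsg.Agent.H571.RM

section exist

variable {F : Type} [Field F] {ι : Type} [Fintype ι] [DecidableEq ι] {Q : QuadraticForm F (ι → F)}
  {e : Fin 3 × Fin 2 → ι → F}

/-- the permutation which exchanges the two vectors in the planes `l`, `m` -/
def pe (l m : Fin 3) : Equiv.Perm (Fin 3 × Fin 2) :=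
  Equiv.swap (l, 0) (l, 1) * Equiv.swap (m, 0) (m, 1)

theorem sign_pe (l m : Fin 3) : Equiv.Perm.sign (pe l m) = 1 := by
  rw [pe, map_mul, Equiv.Perm.sign_swap (by simp), Equiv.Perm.sign_swap (by simp)]
  rfl

/-- the indicator of two planes -/
def TT (l m : Fin 3) (k : Fin 3) : Bool := decide (k = l ∨ k = m)

theorem pe_zero {l m : Fin 3} (hlm : l ≠ m) {k : Fin 3} (hk : TT l m k = true) : pe l m (k, 0) = (k, 1) := by
  revert l m k
  decide

theorem pe_one {l m : Fin 3} (hlm : l ≠ m) {k : Fin 3} (hk : TT l m k = true) : pe l m (k, 1) = (k, 0) := by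
  revert l m k
  decide

theorem pe_not {l m : Fin 3} {k : Fin 3} (hk : TT l m k = false) (i : Fin 2) : pe l m (k, i) = (k, i) := by
  revert l m k i
  decide

/-- rotations of order four in two planes -/
theorem exists_rot (hQ : GoodQ Q) (h2 : (2 : F) ≠ 0) (hF : Frame (polarBilin Q) e) {l m : Fin 3} (hlm : l ≠ m) :
    ∃ g : Cfsg.Omega F (⇑Q), Rot (polarBilin Q) e (TT l m) (rep (inc (⇑Q)) g) := by
  obtain ⟨x, hx⟩ := exists_perm hQ h2 hF (sign_pe l m)
  obtain ⟨y, hy⟩ := exists_sg hQ h2 hF (i := ((l, 1) : Fin 3 × Fin 2)) (j := (m, 1)) (by simpa using hlm)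
  have h : ∀ j, rep (inc (⇑Q)) (x * y) (e j) = sg F ((l, 1) : Fin 3 × Fin 2) (m, 1) j • e (pe l m j) := by
    intro j
    rw [map_mul, End.mul_apply, hy, mono_e hF h2, map_smul, hx, mono_e hF h2, one_smul]
    rfl
  refine ⟨x * y, ⟨?_, ?_, ?_, ?_⟩⟩
  · intro k hk
    rw [h, pe_zero hlm hk, sg, if_neg (by simp), one_smul]
  · intro k hk
    rw [h, pe_one hlm hk, sg, if_pos (by
      simp only [TT, decide_eq_true_eq] at hk
      rcases hk with rfl | rfl
      · exact Or.inl rfl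
      · exact Or.inr rfl), neg_smul, one_smul]
  · intro k hk i
    rw [h, pe_not hk, sg, if_neg (by
      simp only [TT, decide_eq_false_iff_not] at hk
      rintro (h3 | h3)
      · exact hk (Or.inl (congrArg Prod.fst h3))
      · exact hk (Or.inr (congrArg Prod.fst h3))), one_smul]
  · intro w hw
    rw [map_mul, End.mul_apply, hy, mono_orth hw, hx, mono_orth hw]

theorem exists_fr [Finite F] (hnd : (polarBilin Q).Nondegenerate) (h2 : (2 : F) ≠ 0) (hc : 7 ≤ Fintype.card ι) :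
    ∃ e : Fin 3 × Fin 2 → ι → F, Frame (polarBilin Q) e := by
  obtain ⟨x, hx, -⟩ := exists_frames (Q := Q) hnd h2 (e := fun i : Fin 0 => i.elim0)
    ⟨fun i => i.elim0, fun i => i.elim0⟩ 6 (by simpa using hc)
  exact ⟨x ∘ finProdFinEquiv, hx.comp finProdFinEquiv.injective⟩

theorem TT0 : TT 0 1 = T0 := by decide
theorem TT1 : TT 1 2 = T1 := by decide

/-- **the centralising pair** -/
theorem exists_pair [Finite F] (hQ : GoodQ Q) (h2 : (2 : F) ≠ 0) (hc : 7 ≤ Fintype.card ι) :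
    ∃ B : Subgroup (Cfsg.Omega F (⇑Q)), IsPGroup 2 B ∧ (∃ b ∈ B, b * b ≠ 1) ∧
      ∀ A : Subgroup (Cfsg.Omega F (⇑Q)), (∀ a ∈ A, ∀ b ∈ A, a * b = b * a) → (Nat.card A : F) ≠ 0 →
        ¬ 2 ∣ Nat.card A → B ≤ normalizer (A : Set (Cfsg.Omega F (⇑Q))) → ∀ b ∈ B, ∀ a ∈ A, b * a = a * b := by
  obtain ⟨e, hF⟩ := exists_fr hQ.nd h2 hc
  obtain ⟨u, hu⟩ := exists_rot hQ h2 hF (show (0 : Fin 3) ≠ 1 by decide)
  obtain ⟨v, hv⟩ := exists_rot hQ h2 hF (show (1 : Fin 3) ≠ 2 by decide)
  rw [TT0] at hu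
  rw [TT1] at hv
  set ρ := rep (inc (⇑Q)) with hρ
  have hfour : ∀ (T : Fin 3 → Bool) (g : Cfsg.Omega F (⇑Q)), Rot (polarBilin Q) e T (ρ g) → g ^ 4 = 1 := by
    intro T g hg
    apply rep_inj (Q := Q)
    rw [map_pow, map_one]
    exact pow_four_of (hg.rel hF h2)
  have hpz : ∀ (T : Fin 3 → Bool) (g : Cfsg.Omega F (⇑Q)), Rot (polarBilin Q) e T (ρ g) → IsPGroup 2 (zpowers g) := by
    rintro T g hg ⟨_, n, rfl⟩
    refine ⟨2, Subtype.ext ?_⟩
    show (g ^ n) ^ 2 ^ 2 = 1
    rw [← zpow_natCast, ← zpow_mul, mul_comm, zpow_mul, zpow_natCast, show 2 ^ 2 = 4 by norm_num, hfour T g hg,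
      one_zpow]
  have huv : u * v = v * u := by
    apply rep_inj (Q := Q)
    rw [map_mul, map_mul]
    exact hu.comm hv hF h2
  refine ⟨zpowers u ⊔ zpowers v, ?_, ⟨u, mem_sup_left (mem_zpowers u), ?_⟩, ?_⟩
  · refine (hpz _ u hu).to_sup_of_normal_right' (hpz _ v hv) ?_
    rw [zpowers_le, mem_normalizer_iff]
    intro x
    have h1 : ∀ x ∈ zpowers v, u * x * u⁻¹ = x := by
      rintro _ ⟨n, rfl⟩
      have : Commute u (v ^ n) := (show Commute u v from huv).zpow_right n
      show u * v ^ n * u⁻¹ = v ^ n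
      rw [this.eq, mul_inv_cancel_right]
    constructor
    · intro hx
      rw [h1 x hx]
      exact hx
    · intro hx
      have h2 := h1 _ hx
      have h3 : u * x * u⁻¹ = x := by
        have h4 : u * (u * x * u⁻¹) = (u * x * u⁻¹) * u := by
          nth_rewrite 2 [← h2]
          group
        have h5 : u * (u * x * u⁻¹) = u * x := by rw [h4, inv_mul_cancel_right]
        exact mul_left_cancel h5
      rwa [h3] at hx
  · intro h
    have h3 : (ρ u ^ 2) (e (0, 0)) = e (0, 0) := by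
      rw [← map_pow, pow_two, h, map_one, End.one_apply]
    rw [hu.sq, show T0 0 = true from rfl, if_pos rfl] at h3
    have h4 := congrArg (polarBilin Q (e (0, 0))) h3
    rw [map_smul, hF.self, smul_eq_mul] at h4
    have h5 : (2 : F) * 2 = 0 := by linear_combination -h4
    exact h2 ((mul_self_eq_zero).mp h5)
  · intro A hA hcard hodd hBA
    have hn : ∀ g ∈ zpowers u ⊔ zpowers v, ∀ a ∈ A, g * a * g⁻¹ ∈ A := fun g hg a ha =>
      (mem_normalizer_iff.mp (hBA hg) a).mp ha
    have hum : u ∈ zpowers u ⊔ zpowers v := mem_sup_left (mem_zpowers u)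
    have hvm : v ∈ zpowers u ⊔ zpowers v := mem_sup_right (mem_zpowers v)
    have hsu := sq_comm ρ hA hcard h2 (hn u hum) (hu.rel hF h2)
    have hsv := sq_comm ρ hA hcard h2 (hn v hvm) (hv.rel hF h2)
    have hiso : ∀ g : Cfsg.Omega F (⇑Q), ∀ x y, polarBilin Q (ρ g x) (ρ g y) = polarBilin Q x y :=
      fun g x y => polar_omega g x y
    have key : ∀ a ∈ A, ∀ (T : Fin 3 → Bool) (g : Cfsg.Omega F (⇑Q)), Rot (polarBilin Q) e T (ρ g) → g * a = a * g := by
      intro a ha T g hg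
      apply rep_inj (Q := Q)
      rw [map_mul, map_mul]
      refine comm_rot hF h2 hu hv ?_ ?_ ?_ ?_ (hiso a) (m := Nat.card A) ?_ ?_ (a' := ρ a⁻¹) ?_ ?_ hg
      · intro x y
        rw [← map_pow]; exact hiso _ x y
      · intro x y
        rw [← map_pow]; exact hiso _ x y
      · rw [← map_pow]; exact hsu a ha
      · rw [← map_pow]; exact hsv a ha
      · exact Nat.odd_iff.mpr (Nat.two_dvd_ne_zero.mp hodd)
      · have h1 : (⟨a, ha⟩ : A) ^ Nat.card A = 1 := pow_card_eq_one'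
        have h3 : a ^ Nat.card A = 1 := congrArg Subtype.val h1
        rw [← map_pow]
        show ρ (a ^ Nat.card A) = 1
        rw [h3, map_one]
      · rw [← map_mul, mul_inv_cancel, map_one]
      · rw [← map_mul, inv_mul_cancel, map_one]
    intro b hb a ha
    have h5 : zpowers u ⊔ zpowers v ≤ centralizer ({a} : Set (Cfsg.Omega F (⇑Q))) := by
      rw [sup_le_iff, zpowers_le, zpowers_le, mem_centralizer_singleton_iff, mem_centralizer_singleton_iff]
      exact ⟨(key a ha _ u hu), (key a ha _ v hv)⟩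
    exact (mem_centralizer_singleton_iff.mp (h5 hb))

end exist

end Cfsg.Agent.H571.RM.Om
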