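import Cfsg.Agent.H571.RM.OmRow
import Cfsg.Agent.H571.RM.OmTwo

/-!
# S3849: the rows of the orthogonal groups (helper571)

`rowM_oOdd`, `rowM_oPlus`, `rowM_oMinus` : `2 ∈ π`, `3 ∉ π`, characteristic not in `π`.
-/

set_option autoImplicit false
set_option linter.unusedSectionVars false

namespace Cfsg.Agent.H571.RM.Om

open Module QuadraticMap Cfsg.Agent.H167.OP Cfsg.Agent.H170.HL Cfsg.Agent.H170.HL.OmRow Cfsg.Agent.H556.Om
open Subgroup Cfsg Cfsg.Agent.H988.CPi Cfsg.Agent.H571.DExt Cfsg.Agent.H571.RV Cfsg.Agent.H571.RM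

universe u

variable {π : Set ℕ} {S : Type u} [Group S] [Finite S] [IsSimpleGroup S]

/-- **the row of `POmega`** -/
theorem rowM_omega (hna : ∃ a b : S, a * b ≠ b * a)
    (h2π : 2 ∈ π) (h3π : 3 ∉ π) {F : Type} [Field F] [Finite F] {p : ℕ}
    [CharP F p] (hp : p.Prime) (hpπ : p ∉ π) {ι : Type} [Fintype ι]
    [DecidableEq ι] {Q : QuadraticForm F (ι → F)} (hQ : GoodQ Q) (hc : 7 ≤ Fintype.card ι) {Q' : (ι → F) → F}
    (hQQ : ⇑Q = Q') (e : S ≃* Cfsg.POmega F Q') : RowM π S := by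
  by_cases hD : Dom π S
  swap
  · exact her_rowM (her_of_not_dom hD)
  have hE : IsEPiGroup π S := ⟨_, hD.choose_spec.1⟩
  obtain ⟨H, A, hH, hA, hN, hab, hodd, hidx⟩ := fTwo_omega h2π h3π hE hp hpπ hQ hQQ e
  have d : HA π 2 H A := ⟨Nat.prime_two, hH, hA, hN, hab, hodd, hidx⟩
  subst hQQ
  have hfin : Finite (Cfsg.Omega F (⇑Q)) := inferInstance
  have h2 : (2 : F) ≠ 0 := by
    intro h
    have h1 : ((2 : ℕ) : F) = 0 := by exact_mod_cast h
    rw [CharP.cast_eq_zero_iff F p, Nat.prime_dvd_prime_iff_eq hp Nat.prime_two] at h1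
    exact hpπ (h1 ▸ h2π)
  let φ : Cfsg.Omega F (⇑Q) →* S :=
    (e.symm : Cfsg.POmega F (⇑Q) →* S).comp
      (QuotientGroup.mk' (Subgroup.center (Cfsg.Omega F (⇑Q))))
  have hφ : Function.Surjective φ :=
    e.symm.surjective.comp (QuotientGroup.mk'_surjective _)
  have hφc : ∀ k, φ k = 1 → k ∈ Subgroup.center (Cfsg.Omega F (⇑Q)) := by
    intro k h
    rw [← QuotientGroup.eq_one_iff]
    exact e.symm.injective (h.trans (map_one e.symm).symm)
  have hφ1 : ∀ k, φ k = 1 → k * k = 1 := by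
    intro k h
    have h1 := (Cfsg.Agent.LieClassical.OmegaCenter.mem_center_omega_iff Q hQ.nd hQ.card hQ.sing k).mp (hφc k h)
    apply inc_injective
    rw [map_mul, map_one]
    have h1' : inc (⇑Q) k = 1 ∨ inc (⇑Q) k = -1 := h1
    rcases h1' with h | h
    · rw [h, one_mul]
    · rw [h, neg_mul_neg, one_mul]
  obtain ⟨B, hB, ⟨b, hb, hb1⟩, hC⟩ := exists_pair hQ h2 hc
  refine rowM_of_cen hna d h2π φ hφ (fun k hk => hφc k hk) ?_ hB ⟨b, hb, fun h => hb1 (hφ1 b h)⟩ ?_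
  · rw [Nat.coprime_iff_gcd_eq_one]
    by_contra hne
    obtain ⟨t, ht, hd⟩ := Nat.exists_prime_and_dvd hne
    have hA : t ∣ Nat.card A := hd.trans (Nat.gcd_dvd_left _ _)
    have hK : t ∣ Nat.card φ.ker := hd.trans (Nat.gcd_dvd_right _ _)
    have := Fact.mk ht
    obtain ⟨x, hx⟩ := exists_prime_orderOf_dvd_card' (G := φ.ker) t hK
    have h3 : x * x = 1 := Subtype.ext (hφ1 _ x.2)
    have h4 : t ∣ 2 := by
      rw [← hx]
      exact orderOf_dvd_of_pow_eq_one (by rw [pow_two]; exact h3)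
    rw [(Nat.prime_dvd_prime_iff_eq ht Nat.prime_two).mp h4] at hA
    exact d.rA hA
  · intro A' hA' hπ' h2A' hBA'
    refine hC A' hA' ?_ h2A' hBA'
    intro h0
    rw [CharP.cast_eq_zero_iff F p] at h0
    exact hpπ (hπ' p hp h0)

theorem rowM_oOdd (hna : ∃ a b : S, a * b ≠ b * a) (h2π : 2 ∈ π) (h3π : 3 ∉ π) (p : ℕ) (hp : p.Prime)
    (hpπ : p ∉ π) (hG : IsPOmegaOddChar p S) : RowM π S := by
  obtain ⟨F, _, _, hchar, m, hm, hoddF, ⟨e⟩⟩ := hG
  have h2 : (2 : F) ≠ 0 := by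
    intro h
    have h1 : ((2 : ℕ) : F) = 0 := by exact_mod_cast h
    rw [CharP.cast_eq_zero_iff F p, Nat.prime_dvd_prime_iff_eq hp Nat.prime_two] at h1
    exact hpπ (h1 ▸ h2π)
  exact rowM_omega hna h2π h3π hp hpπ (goodQ_odd (by omega) h2) (by simp; omega)
    (Cfsg.Agent.LieClassical.OrthForms.coe_oddForm m F) e

theorem rowM_oPlus (hna : ∃ a b : S, a * b ≠ b * a) (h2π : 2 ∈ π) (h3π : 3 ∉ π) (p : ℕ) (hp : p.Prime)
    (hpπ : p ∉ π) (hG : IsPOmegaPlusChar p S) : RowM π S := by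
  obtain ⟨F, _, _, hchar, m, hm, ⟨e⟩⟩ := hG
  exact rowM_omega hna h2π h3π hp hpπ (goodQ_plus (by omega)) (by simp; omega)
    (Cfsg.Agent.LieClassical.OrthForms.coe_plusForm m F) e

theorem rowM_oMinus (hna : ∃ a b : S, a * b ≠ b * a) (h2π : 2 ∈ π) (h3π : 3 ∉ π) (p : ℕ) (hp : p.Prime)
    (hpπ : p ∉ π) (hG : IsPOmegaMinusChar p S) : RowM π S := by
  obtain ⟨F, _, _, hchar, m, a, b, hm, hab, ⟨e⟩⟩ := hG
  exact rowM_omega hna h2π h3π hp hpπ (goodQ_minus (by omega) a b hab) (by simp; omega)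
    (Cfsg.Agent.LieClassical.OrthForms.coe_minusForm (m - 1) F a b) e

end Cfsg.Agent.H571.RM.Om
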