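import Cfsg.Agent.H571.RM.Rows

/-!
# S3849: `RowM` from a single element (helper571)

`rowM_of_z` : `z ≠ 1` an `r`-element all of whose conjugates in `H` centralise `A`.
-/

set_option autoImplicit false

namespace Cfsg.Agent.H571.RM

open Subgroup Cfsg Cfsg.Agent.H988.CPi Cfsg.Agent.H571.DExt Cfsg.Agent.H571.RV Cfsg.Agent.Solvable.SZ
open scoped Pointwise

universe u

variable {π : Set ℕ} {r : ℕ} {S : Type u} [Group S] {H A : Subgroup S}

/-- the subgroup generated by the conjugates of `z` in `H` -/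
def cz (H : Subgroup S) (z : S) : Subgroup S := closure {y | y ∈ H ∧ ∃ g : S, g * z * g⁻¹ = y}

theorem cz_le (z : S) : cz H z ≤ H := by
  rw [cz, closure_le]
  exact fun y hy => hy.1

theorem cz_smul (z x : S) : cz (MulAut.conj x • H) z = MulAut.conj x • cz H z := by
  have h1 : {y | y ∈ MulAut.conj x • H ∧ ∃ g : S, g * z * g⁻¹ = y} =
      (fun y => x * y * x⁻¹) '' {y | y ∈ H ∧ ∃ g : S, g * z * g⁻¹ = y} := by
    ext y
    constructor
    · rintro ⟨hy, g, rfl⟩
      refine ⟨x⁻¹ * (g * z * g⁻¹) * x, ⟨mem_smul_iff'.mp hy, x⁻¹ * g, by group⟩, ?_⟩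
      show x * (x⁻¹ * (g * z * g⁻¹) * x) * x⁻¹ = g * z * g⁻¹
      group
    · rintro ⟨y', ⟨hy', g, rfl⟩, rfl⟩
      refine ⟨⟨_, hy', rfl⟩, x * g, ?_⟩
      show x * g * z * (x * g)⁻¹ = x * (g * z * g⁻¹) * x⁻¹
      group
  rw [cz, h1]
  have h2 := MonoidHom.map_closure (MulAut.conj x).toMonoidHom {y | y ∈ H ∧ ∃ g : S, g * z * g⁻¹ = y}
  exact h2.symm

theorem le_normalizer_cz (z : S) : H ≤ normalizer (cz H z : Set S) := by
  have h1 : ∀ x ∈ H, MulAut.conj x • cz H z = cz H z := by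
    intro x hx
    rw [← cz_smul]
    congr 1
    ext y
    rw [mem_smul_iff']
    constructor
    · intro hy
      have h2 := H.mul_mem (H.mul_mem hx hy) (H.inv_mem hx)
      have h3 : x * (x⁻¹ * y * x) * x⁻¹ = y := by group
      rwa [h3] at h2
    · intro hy
      exact H.mul_mem (H.mul_mem (H.inv_mem hx) hy) hx
  rw [le_normalizer_iff]
  intro x hx b hb
  rw [← h1 x hx]
  exact ⟨b, hb, rfl⟩

/-- the normal Sylow `r`-subgroup of `C_H(A)` -/
theorem HA.exists_core [Finite S] (d : HA π r H A) : ∃ R : Subgroup S, IsPGroup r R ∧ R ≤ H ∧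
    (∀ b ∈ R, ∀ a ∈ A, b * a = a * b) ∧
    ∀ y ∈ H, (∃ k, y ^ r ^ k = 1) → (∀ a ∈ A, y * a = a * y) → y ∈ R := by
  have := Fact.mk d.hr
  set C := H ⊓ centralizer (A : Set S) with hC
  have hAC : A ≤ C := le_inf d.ale (fun a ha => by
    rw [mem_centralizer_iff]
    intro x hx
    exact d.ab x hx a ha)
  have hCA : C ≤ normalizer (A : Set S) := inf_le_left.trans d.nor
  have hidx : ∀ p : ℕ, p.Prime → p ∣ A.relIndex C → p = r := fun p hp hd => d.idx p hp (hd.trans (by
    rw [← relIndex_mul_relIndex A C H hAC inf_le_left]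
    exact Dvd.intro _ rfl))
  obtain ⟨R, hRC, hR, hsup⟩ := sup_sylow d.hr hAC hCA hidx
  have hRA : ∀ b ∈ R, ∀ a ∈ A, b * a = a * b := fun b hb a ha =>
    (mem_centralizer_iff.mp (hRC hb).2 a ha).symm
  refine ⟨R, hR, hRC.trans inf_le_left, hRA, fun y hy ⟨k, hk⟩ hya => ?_⟩
  have hyC : y ∈ C := ⟨hy, by
    show y ∈ centralizer (A : Set S)
    rw [mem_centralizer_iff]
    intro a ha
    exact (hya a ha).symm⟩
  -- `R` is normal in `C`
  have hRn : C ≤ normalizer (R : Set S) := by
    rw [← hsup]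
    refine sup_le ?_ le_normalizer
    rw [le_normalizer_iff]
    intro a ha b hb
    rw [← hRA b hb a ha, mul_inv_cancel_right]
    exact hb
  -- `⟨y⟩` is an `r`-group
  have hyr : IsPGroup r (zpowers y) := by
    rintro ⟨x, m, rfl⟩
    refine ⟨k, Subtype.ext ?_⟩
    show (y ^ m) ^ r ^ k = 1
    rw [← zpow_natCast, ← zpow_mul, mul_comm, zpow_mul, zpow_natCast, hk, one_zpow]
  have hyle : zpowers y ≤ normalizer (R : Set S) := by
    rw [zpowers_le]; exact hRn hyC
  have hP : IsPGroup r (zpowers y ⊔ R : Subgroup S) := IsPGroup.to_sup_of_normal_right' hyr hR hyle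
  have hle : zpowers y ⊔ R ≤ C := sup_le (by rw [zpowers_le]; exact hyC) hRC
  -- index
  have h1 : R.relIndex (zpowers y ⊔ R) = 1 := by
    by_contra hne
    obtain ⟨p, hp, hd⟩ := Nat.exists_prime_and_dvd hne
    have h2 : p = r := by
      obtain ⟨j, hj⟩ := IsPGroup.iff_card.mp hP
      have h3 : p ∣ Nat.card (zpowers y ⊔ R : Subgroup S) := by
        rw [← relIndex_bot_left, ← relIndex_mul_relIndex ⊥ R _ bot_le le_sup_right]
        exact hd.trans (Dvd.intro_left _ rfl)
      rw [hj] at h3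
      exact (Nat.prime_dvd_prime_iff_eq hp d.hr).mp (hp.dvd_of_dvd_pow h3)
    have h4 : r ∣ R.relIndex C := by
      rw [← relIndex_mul_relIndex R _ C le_sup_right hle, ← h2]
      exact hd.trans (Dvd.intro _ rfl)
    -- `R.relIndex C` divides `|A|`
    have h5 : R.relIndex C ∣ Nat.card A := by
      have h6 : R.relIndex C = R.relIndex A := by
        have hn : (R.subgroupOf C).Normal := (normal_subgroupOf_iff_le_normalizer hRC).mpr hRn
        have h10 : A.subgroupOf C ⊔ R.subgroupOf C = ⊤ := by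
          rw [← subgroupOf_sup hAC hRC, hsup, subgroupOf_self]
        have h11 := relIndex_sup_right (H := A.subgroupOf C) (K := R.subgroupOf C)
        rw [h10, relIndex_top_right] at h11
        rw [relIndex, h11, relIndex_subgroupOf hAC]
      rw [h6]
      exact relIndex_dvd_card R A
    exact d.rA (h4.trans h5)
  exact relIndex_eq_one.mp h1 (mem_sup_left (mem_zpowers y))

end Cfsg.Agent.H571.RM
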