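import Cfsg.Agent.H571.RM.RowZ

/-!
# S3849: `rowM_of_z` (helper571)

* `rowM_of_z` : `z ≠ 1` an `r`-element all of whose conjugates in `H` centralise `A`: `RowM π S`;
* `HA.map` : the data `HA` under a surjective homomorphism; `cen_of_cover` : the condition on `z` may be checked in a
  central extension `X` of `S`.
-/

set_option autoImplicit false

namespace Cfsg.Agent.H571.RM

open Subgroup Cfsg Cfsg.Agent.H988.CPi Cfsg.Agent.H571.DExt Cfsg.Agent.H571.RV Cfsg.Agent.Solvable.SZ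
open scoped Pointwise

universe u

variable {π : Set ℕ} {r : ℕ} {S : Type u} [Group S] {H A : Subgroup S}

theorem piN_of_pgroup [Finite S] (hr : r.Prime) (hrπ : r ∈ π) {Q : Subgroup S} (hQ : IsPGroup r Q) :
    PiN π (Nat.card Q) := by
  intro p hp hd
  have := Fact.mk hr
  obtain ⟨k, hk⟩ := IsPGroup.iff_card.mp hQ
  rw [hk] at hd
  rw [(Nat.prime_dvd_prime_iff_eq hp hr).mp (hp.dvd_of_dvd_pow hd)]
  exact hrπ

theorem isPGroup_zpowers {y : S} {k : ℕ} (hk : y ^ r ^ k = 1) : IsPGroup r (zpowers y) := by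
  rintro ⟨x, m, rfl⟩
  refine ⟨k, Subtype.ext ?_⟩
  show (y ^ m) ^ r ^ k = 1
  rw [← zpow_natCast, ← zpow_mul, mul_comm, zpow_mul, zpow_natCast, hk, one_zpow]

variable [Finite S]

/-- **a single element** `z` -/
theorem rowM_of_z [IsSimpleGroup S] (hna : ∃ a b : S, a * b ≠ b * a) (d : HA π r H A) (hrπ : r ∈ π) {z : S}
    (hz : z ≠ 1) (hzr : ∃ k, z ^ r ^ k = 1)
    (hcen : Dom π S → ∀ g : S, g * z * g⁻¹ ∈ H → ∀ a ∈ A, (g * z * g⁻¹) * a = a * (g * z * g⁻¹)) : RowM π S := by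
  intro hsm hD
  obtain ⟨k, hk⟩ := hzr
  obtain ⟨R, hR, hRH, hRA, hRmem⟩ := d.exists_core
  have hBR : cz H z ≤ R := by
    rw [cz, closure_le]
    rintro _ ⟨hy, g, rfl⟩
    refine hRmem _ hy ⟨k, ?_⟩ (hcen hD g hy)
    rw [conj_pow, hk, mul_one, mul_inv_cancel]
  have hdom := (d.dfw hD).dom
  -- an `r`-group containing `B^g` : `B^g = B^x` for every `x` with `Q ≤ H^x`
  have key : ∀ g x : S, ∀ Q : Subgroup S, MulAut.conj g • cz H z ≤ Q → Q ≤ MulAut.conj x • H →
      MulAut.conj g • cz H z = MulAut.conj x • cz H z := by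
    intro g x Q h1 h2
    have h3 : MulAut.conj g • cz H z ≤ MulAut.conj x • cz H z := by
      rw [← cz_smul, ← cz_smul]
      have h4 : cz (MulAut.conj g • H) z ≤ MulAut.conj x • H := by
        rw [cz_smul]; exact h1.trans h2
      rw [cz, closure_le] at h4 ⊢
      rintro y hy
      exact subset_closure ⟨h4 hy, hy.2⟩
    exact eq_of_le_of_card_ge h3 (by rw [card_conj_smul, card_conj_smul])
  refine rowM_of_wc (B := cz H z) hna d hrπ (hR.to_le hBR) ?_ (cz_le z) (le_normalizer_cz z)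
    (fun b hb a ha => hRA b (hBR hb) a ha) ?_ hsm hD
  · intro hbot
    obtain ⟨x, -, hx⟩ := hdom (zpowers z) le_top (piN_of_pgroup d.hr hrπ (isPGroup_zpowers hk))
    have h1 : x⁻¹ * z * x ∈ H := mem_smul_iff'.mp (hx (mem_zpowers z))
    have h2 : x⁻¹ * z * x ∈ cz H z := subset_closure ⟨h1, x⁻¹, by group⟩
    rw [hbot, mem_bot] at h2
    apply hz
    have h3 : z = x * (x⁻¹ * z * x) * x⁻¹ := by group
    rw [h3, h2]; group
  · intro _ g Q hQ h1 h2
    obtain ⟨x, -, hx⟩ := hdom Q le_top (piN_of_pgroup d.hr hrπ hQ)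
    have h3 := key g x Q h2 hx
    have h4 := key 1 x Q (by rw [map_one, one_smul]; exact h1) hx
    rw [map_one, one_smul] at h4
    exact h3.trans h4.symm

end Cfsg.Agent.H571.RM
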