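import Cfsg.Agent.H571.RM.Fd
import Cfsg.Agent.H808.RV.Iso

/-!
# S3849: sufficient conditions for `RowM π S` (helper571)

`HA π r H A` : `H` a Hall `π`-subgroup, `A` a normal abelian subgroup of `H` of order prime to `r`, `H / A` an `r`-group.

* `rowM_of_L` (THETA), `rowM_of_wc` (`B ≤ C_H(A)` weakly closed), `rowM_of_z` (a single element `z`);
* `rowM_of_fd`, `rowM_of_cent`, `rowM_of_prime`, `rowM_of_fdM` (criterion FD);
* `her_of_nilpotent`, `her_of_onePrime`, `her_of_piGrp`.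
-/

set_option autoImplicit false

namespace Cfsg.Agent.H571.RM

open Subgroup Cfsg Cfsg.Agent.H988.CPi Cfsg.Agent.H571.DExt Cfsg.Agent.H571.RV Cfsg.Agent.Solvable.SZ
open scoped Pointwise

universe u

variable {π : Set ℕ} {r : ℕ} {S : Type u} [Group S] {H A B L : Subgroup S}

/-- the data of `FHall` -/
structure HA (π : Set ℕ) (r : ℕ) (H A : Subgroup S) : Prop where
  hr : r.Prime
  hall : IsPiHall π H
  ale : A ≤ H
  nor : H ≤ normalizer (A : Set S)
  ab : ∀ a ∈ A, ∀ b ∈ A, a * b = b * a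
  rA : ¬ r ∣ Nat.card A
  idx : ∀ p : ℕ, p.Prime → p ∣ A.relIndex H → p = r

theorem FHall.exists_HA (h : FHall π S) : ∃ r : ℕ, ∃ H A : Subgroup S, HA π r H A := by
  obtain ⟨r, hr, H, A, hH, hAH, hN, hab, hrA, hp⟩ := h
  exact ⟨r, H, A, hr, hH, hAH, hN, hab, hrA, hp⟩

variable [Finite S]

theorem HA.dfw (d : HA π r H A) (hD : Dom π S) : DFw π r ⊤ H A :=
  dfw_mk hD d.hall d.ale d.nor d.ab d.rA d.idx

/-- FD criterion for all overgroups -/
theorem rowM_of_fdM (d : HA π r H A)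
    (hfd : Dom π S → ∀ M : Subgroup S, H ≤ M → M ≠ ⊤ → ∀ X ≤ A, X ≠ ⊥ →
      ¬ r ∣ (normalizer (A : Set S)).relIndex (centralizer (X : Set S) ⊓ M)) : RowM π S := by
  intro _
  refine her_of_one d.hall fun hD M hHM => ?_
  by_cases hM : M = ⊤
  · subst hM
    exact (d.dfw hD).dom
  · exact fd (d.dfw hD) d.hr hHM (hfd hD M hHM hM)

theorem rowM_of_fd (d : HA π r H A)
    (hfd : Dom π S → ∀ X ≤ A, X ≠ ⊥ → ¬ r ∣ H.relIndex (centralizer (X : Set S))) : RowM π S := by
  intro _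
  exact her_of_one d.hall fun hD M hHM => fd_cent (d.dfw hD) d.hr hHM (hfd hD)

theorem rowM_of_cent (d : HA π r H A)
    (hfd : Dom π S → ∀ X ≤ A, X ≠ ⊥ → centralizer (X : Set S) ≤ normalizer (A : Set S)) : RowM π S := by
  intro _
  exact her_of_one d.hall fun hD M hHM => fd_norm (d.dfw hD) d.hr hHM (hfd hD)

theorem rowM_of_prime (d : HA π r H A) (hA : (Nat.card A).Prime) : RowM π S := by
  refine rowM_of_cent d fun _ X hXA hX => ?_
  have h1 : X = A := by
    refine eq_of_le_of_card_ge hXA ?_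
    rcases (Nat.dvd_prime hA).mp (card_dvd_of_le hXA) with h | h
    · exact absurd (card_eq_one.mp h) hX
    · exact h.ge
  rw [h1]
  exact centralizer_le_normalizer _

/-- **THETA** -/
theorem rowM_of_L (d : HA π r H A) (hrπ : r ∈ π) (hB : IsPGroup r B) (hBH : B ≤ H)
    (hBn : H ≤ normalizer (B : Set S)) (hBA : ∀ b ∈ B, ∀ a ∈ A, b * a = a * b) (hL : Ctrl r B L) (hLt : L ≠ ⊤) :
    RowM π S := by
  intro hsm
  refine her_of_one d.hall fun hD M hHM => ?_
  have h := d.dfw hD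
  have hHL := theta_le hB hL hBn
  refine theta h d.hr hB hBH hBA hL hHM ?_
  have hDL : Dom π L := (theta_L h d.hr hrπ hB hBH hBn hBA hL).dom d.hall hHL
  have h1 : Dom π ((M ⊓ L).subgroupOf L) := hsm L hLt hDL (H.subgroupOf L) ((M ⊓ L).subgroupOf L)
    (hall_subgroupOf d.hall hHL) (by
      intro x hx
      exact ⟨hHM hx, x.2⟩)
  have h2 : DomIn π ((M ⊓ L).subgroupOf L) (H.subgroupOf L) :=
    DomIn.of_dom (hall_subgroupOf d.hall hHL) (by
      intro x hx
      exact ⟨hHM hx, x.2⟩) h1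
  intro K hK hKπ
  have hKL : K ≤ L := hK.trans inf_le_right
  obtain ⟨m, hm, hle⟩ := h2 (K.subgroupOf L) (fun x hx => hK hx) (by rw [card_subgroupOf _ _ hKL]; exact hKπ)
  refine ⟨m, hm, fun x hx => ?_⟩
  obtain ⟨y, hy, hyx⟩ := hle (show (⟨x, hKL hx⟩ : L) ∈ K.subgroupOf L from hx)
  exact ⟨y, hy, congrArg Subtype.val hyx⟩

theorem not_pgroup [IsSimpleGroup S] (hna : ∃ a b : S, a * b ≠ b * a) (hr : r.Prime) :
    ¬ IsPGroup r (⊤ : Subgroup S) := by
  intro h
  have := Fact.mk hr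
  have h1 : IsPGroup r S := h.of_equiv Subgroup.topEquiv
  have h2 := h1.center_nontrivial
  have h3 : Subgroup.center S ≠ ⊥ := (Subgroup.nontrivial_iff_ne_bot _).mp h2
  have h4 : Subgroup.center S = ⊤ := (IsSimpleGroup.eq_bot_or_eq_top_of_normal _ inferInstance).resolve_left h3
  obtain ⟨a, b, hab⟩ := hna
  have h5 : b ∈ Subgroup.center S := by rw [h4]; exact mem_top b
  exact hab (Subgroup.mem_center_iff.mp h5 a)

/-- a nontrivial weakly closed `r`-subgroup `B ≤ C_H(A)` -/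
theorem rowM_of_wc [IsSimpleGroup S] (hna : ∃ a b : S, a * b ≠ b * a) (d : HA π r H A) (hrπ : r ∈ π)
    (hB : IsPGroup r B) (hB1 : B ≠ ⊥) (hBH : B ≤ H) (hBn : H ≤ normalizer (B : Set S))
    (hBA : ∀ b ∈ B, ∀ a ∈ A, b * a = a * b)
    (hwc : Dom π S → ∀ g : S, ∀ Q : Subgroup S, IsPGroup r Q → B ≤ Q → MulAut.conj g • B ≤ Q → MulAut.conj g • B = B) :
    RowM π S := by
  intro hsm hD
  refine rowM_of_L (L := normalizer (B : Set S)) d hrπ hB hBH hBn hBA ?_ ?_ hsm hD
  · intro g Q hQ h1 h2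
    have h3 := hwc hD g Q hQ h1 h2
    rw [mem_normalizer_iff]
    intro b
    constructor
    · intro hb
      have h4 : g * b * g⁻¹ ∈ MulAut.conj g • B := ⟨b, hb, rfl⟩
      rwa [h3] at h4
    · intro hb
      have h4 : g * b * g⁻¹ ∈ MulAut.conj g • B := by rw [h3]; exact hb
      rw [mem_smul_iff'] at h4
      have h5 : g⁻¹ * (g * b * g⁻¹) * g = b := by group
      rwa [h5] at h4
  · intro htop
    have hn : B.Normal := normalizer_eq_top_iff.mp htop
    rcases IsSimpleGroup.eq_bot_or_eq_top_of_normal B hn with h | h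
    · exact hB1 h
    · rw [h] at hB
      exact not_pgroup hna d.hr hB

end Cfsg.Agent.H571.RM
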